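import Groth.Prelude.Def_CE
import Mathlib.Algebra.Homology.HomologySequence
import Mathlib.Algebra.Homology.HomologicalComplexAbelian
import Mathlib.Algebra.Homology.Additive
import Mathlib.CategoryTheory.Abelian.Refinements
import Mathlib.CategoryTheory.Preadditive.Injective.Basic

/-!
# Cartan–Eilenberg resolutions
-/

set_option autoImplicit false

universe v u

open CategoryTheory CategoryTheory.Limits ZeroObject

namespace Groth.Agent.CE6

variable {A : Type u} [Category.{v} A] [Abelian A]

theorem injective_of_retract {X Y : A} [Injective Y] (i : X ⟶ Y) (r : Y ⟶ X) (h : i ≫ r = 𝟙 X) :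
    Injective X :=
  ⟨fun g f => ⟨Injective.factorThru (g ≫ i) f ≫ r, by
    rw [← Category.assoc, Injective.comp_factorThru, Category.assoc, h, Category.comp_id]⟩⟩

section ses

variable {K L M : CochainComplex A ℤ} {f : K ⟶ L} {g : L ⟶ M} {w : f ≫ g = 0}
  (hS : (ShortComplex.mk f g w).ShortExact) (hf : ∀ p, Mono (HomologicalComplex.homologyMap f p))

include hS hf

theorem δ_eq_zero (i j : ℤ) (hij : (ComplexShape.up ℤ).Rel i j) : hS.δ i j hij = 0 := by
  haveI := hf j
  rw [← cancel_mono (HomologicalComplex.homologyMap f j), zero_comp]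
  exact hS.δ_comp i j hij

theorem epi_homologyMap (p : ℤ) : Epi (HomologicalComplex.homologyMap g p) := by
  have h := hS.homology_exact₃ p (p + 1) rfl
  exact h.epi_f (δ_eq_zero hS hf p (p + 1) rfl)

theorem shortExact_homology (p : ℤ) :
    ((ShortComplex.mk f g w).map (HomologicalComplex.homologyFunctor A (ComplexShape.up ℤ) p)).ShortExact := by
  haveI := hf p
  haveI := epi_homologyMap hS hf p
  exact { exact := hS.homology_exact₂ p, mono_f := hf p, epi_g := epi_homologyMap hS hf p }

theorem epi_cyclesMap (p : ℤ) : Epi (HomologicalComplex.cyclesMap g p) := by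
  haveI := epi_homologyMap hS hf p
  haveI : Epi (g.f (p - 1)) := by
    haveI := hS.epi_g
    exact (inferInstance : Epi ((HomologicalComplex.eval A (ComplexShape.up ℤ) (p - 1)).map g))
  rw [epi_iff_surjective_up_to_refinements]
  intro T c
  obtain ⟨T₁, π₁, _, h, hh⟩ :=
    surjective_up_to_refinements_of_epi (HomologicalComplex.homologyMap g p) (c ≫ M.homologyπ p)
  obtain ⟨T₂, π₂, _, z, hz⟩ := surjective_up_to_refinements_of_epi (L.homologyπ p) h
  have h0 : (π₂ ≫ π₁ ≫ c - z ≫ HomologicalComplex.cyclesMap g p) ≫ M.homologyπ p = 0 := by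
    rw [Preadditive.sub_comp, Category.assoc, Category.assoc, Category.assoc, hh,
      ← HomologicalComplex.homologyπ_naturality, ← Category.assoc π₂ h, hz, Category.assoc, sub_self]
  have hex : (ShortComplex.mk (M.toCycles (p - 1) p) (M.homologyπ p) (M.toCycles_comp_homologyπ _ _)).Exact :=
    ShortComplex.exact_of_g_is_cokernel _ (M.homologyIsCokernel (p - 1) p (by simp))
  obtain ⟨T₃, π₃, _, w₀, hw₀⟩ := hex.exact_up_to_refinements _ h0
  obtain ⟨T₄, π₄, _, v₀, hv₀⟩ := surjective_up_to_refinements_of_epi (g.f (p - 1)) w₀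
  refine ⟨T₄, π₄ ≫ π₃ ≫ π₂ ≫ π₁, inferInstance, π₄ ≫ π₃ ≫ z + v₀ ≫ L.toCycles (p - 1) p, ?_⟩
  have hnat : L.toCycles (p - 1) p ≫ HomologicalComplex.cyclesMap g p = g.f (p - 1) ≫ M.toCycles (p - 1) p := by
    simp [← cancel_mono (M.iCycles p)]
  dsimp at hw₀
  rw [Preadditive.add_comp, Category.assoc v₀, hnat, ← Category.assoc v₀, ← hv₀, Category.assoc π₄ w₀, ← hw₀]
  simp only [Category.assoc, Preadditive.comp_sub]
  abel

theorem shortExact_cycles (p : ℤ) :
    ((ShortComplex.mk f g w).map (HomologicalComplex.cyclesFunctor A (ComplexShape.up ℤ) p)).ShortExact := by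
  haveI := hS.mono_f
  haveI : Mono (ShortComplex.mk f g w).f := hS.mono_f
  refine { exact := HomologicalComplex.cycles_left_exact _ hS.exact p, mono_f := ?_, epi_g := epi_cyclesMap hS hf p }
  change Mono (HomologicalComplex.cyclesMap f p)
  haveI : Mono (f.f p) := (inferInstance : Mono ((HomologicalComplex.eval A (ComplexShape.up ℤ) p).map f))
  infer_instance

end ses

/-- The predicate: a monomorphism into a CE-injective complex. -/
structure IsCEEmb {C J : CochainComplex A ℤ} (ε : C ⟶ J) : Prop where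
  mono : Mono ε
  mono_homology : ∀ p, Mono (HomologicalComplex.homologyMap ε p)
  inj_X : ∀ p, Injective (J.X p)
  inj_cycles : ∀ p, Injective (J.cycles p)
  inj_homology : ∀ p, Injective (J.homology p)

section emb

variable [EnoughInjectives A] (C : CochainComplex A ℤ) (n : ℤ) [C.IsStrictlyGE n]

theorem exists_J (p : ℤ) : ∃ (J : A) (j : C.X p ⟶ J), Injective J ∧ (p < n → IsZero J) ∧
    C.d (p - 1) p ≫ j = 0 ∧
    ∀ (hj : C.d (p - 1) p ≫ j = 0), Mono (C.homologyι p ≫ C.descOpcycles j (p - 1) (by simp) hj) := by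
  by_cases h : p < n
  · refine ⟨0, 0, inferInstance, fun _ => isZero_zero A, comp_zero, fun hj => ?_⟩
    have hz : IsZero (C.homology p) :=
      (HomologicalComplex.exactAt_iff_isZero_homology _ _).1 (HomologicalComplex.ExactAt.of_isZero (C.isZero_of_isStrictlyGE n p h))
    exact ⟨fun a b _ => hz.eq_of_tgt a b⟩
  · let j := C.pOpcycles p ≫ Injective.factorThru (Injective.ι (C.homology p)) (C.homologyι p)
    have hj : C.d (p - 1) p ≫ j = 0 := by simp [j]
    refine ⟨_, j, inferInstance, fun h' => absurd h' h, hj, fun hj => ?_⟩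
    have e : C.descOpcycles j (p - 1) (by simp) hj = Injective.factorThru (Injective.ι (C.homology p)) (C.homologyι p) := by
      rw [← cancel_epi (C.pOpcycles p), HomologicalComplex.p_descOpcycles]
    rw [e, Injective.comp_factorThru]
    infer_instance

theorem exists_E (p : ℤ) : ∃ (E : A) (e : C.X p ⟶ E), Injective E ∧ (p ≤ n → IsZero E) ∧ (n < p → Mono e) := by
  by_cases h : p ≤ n
  · exact ⟨0, 0, inferInstance, fun _ => isZero_zero A, fun h' => absurd h (not_le.2 h')⟩
  · exact ⟨_, Injective.ι (C.X p), inferInstance, fun h' => absurd h' h, fun _ => inferInstance⟩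

theorem exists_emb : ∃ (J : CochainComplex A ℤ) (ε : C ⟶ J), J.IsStrictlyGE n ∧ IsCEEmb ε := by
  choose J j hJi hJ0 hj hjm using exists_J C n
  choose E e hEi hE0 hem using exists_E C n
  let X : ℤ → A := fun p => J p ⊞ (E p ⊞ E (p + 1))
  let d : ∀ p, X p ⟶ X (p + 1) := fun p => biprod.snd ≫ biprod.snd ≫ biprod.inl ≫ biprod.inr
  have hd : ∀ p, d p ≫ d (p + 1) = 0 := fun p => by simp [d]
  let I : CochainComplex A ℤ := CochainComplex.of X d hd
  have hId : ∀ p, I.d p (p + 1) = d p := fun p => CochainComplex.of_d ..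
  have hIX : ∀ p, Injective (I.X p) := fun p => by
    haveI := hJi p; haveI := hEi p; haveI := hEi (p + 1)
    exact (inferInstance : Injective (J p ⊞ (E p ⊞ E (p + 1))))
  let ef : ∀ p, C.X p ⟶ I.X p := fun p => biprod.lift (j p) (biprod.lift (e p) (C.d p (p + 1) ≫ e (p + 1)))
  let ε : C ⟶ I :=
    { f := ef
      comm' := by
        intro a b hab
        obtain rfl : a + 1 = b := hab
        rw [hId]
        have hj' : C.d a (a + 1) ≫ j (a + 1) = 0 := by
          have := hj (a + 1)
          rwa [add_sub_cancel_right] at this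
        show ef a ≫ d a = C.d a (a + 1) ≫ ef (a + 1)
        ext <;> simp [ef, d, hj'] }
  have hge : I.IsStrictlyGE n := by
    rw [CochainComplex.isStrictlyGE_iff]
    intro p hp
    have h1 := hJ0 p hp
    have h2 := hE0 p hp.le
    have h3 := hE0 (p + 1) (by omega)
    refine (IsZero.iff_id_eq_zero _).2 ?_
    show 𝟙 (J p ⊞ (E p ⊞ E (p + 1))) = 0
    apply biprod.hom_ext
    · exact h1.eq_of_tgt _ _
    · apply biprod.hom_ext
      · exact h2.eq_of_tgt _ _
      · exact h3.eq_of_tgt _ _
  have hk : ∀ p, I.iCycles p ≫ d p = 0 := fun p => by rw [← hId]; exact I.iCycles_d p (p + 1)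
  have hsnd : ∀ p, I.iCycles p ≫ biprod.snd ≫ biprod.snd = 0 := fun p => by
    have := hk p =≫ (biprod.snd ≫ biprod.fst)
    simpa [d] using this
  refine ⟨I, ε, hge, ⟨?_, ?_, hIX, ?_, ?_⟩⟩
  · haveI : ∀ p, Mono (ε.f p) := by
      intro p
      rw [Preadditive.mono_iff_cancel_zero]
      intro T x hx
      have h1 : x ≫ j p = 0 := by simpa [ε, ef] using hx =≫ biprod.fst
      have h2 : x ≫ e p = 0 := by simpa [ε, ef] using hx =≫ (biprod.snd ≫ biprod.fst)
      have h3 : (x ≫ C.d p (p + 1)) ≫ e (p + 1) = 0 := by simpa [ε, ef] using hx =≫ (biprod.snd ≫ biprod.snd)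
      rcases lt_trichotomy p n with hlt | heq | hgt
      · exact (C.isZero_of_isStrictlyGE n p hlt).eq_of_tgt _ _
      · haveI := hem (p + 1) (by omega)
        have hxd : x ≫ C.d p (p + 1) = 0 := (cancel_mono (e (p + 1))).1 (h3.trans zero_comp.symm)
        haveI := hjm p (hj p)
        have hz : C.liftCycles x (p + 1) (by simp) hxd ≫ C.homologyπ p = 0 := by
          rw [← cancel_mono (C.homologyι p ≫ C.descOpcycles (j p) (p - 1) _ (hj p)), zero_comp]
          simp [h1]
        have hex : (ShortComplex.mk (C.toCycles (p - 1) p) (C.homologyπ p) (C.toCycles_comp_homologyπ _ _)).Exact :=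
          ShortComplex.exact_of_g_is_cokernel _ (C.homologyIsCokernel (p - 1) p (by simp))
        obtain ⟨T₁, π, _, w, hw⟩ := hex.exact_up_to_refinements _ hz
        have h0 : w = 0 := (C.isZero_of_isStrictlyGE n (p - 1) (by omega)).eq_of_tgt _ _
        dsimp at hw
        rw [h0, zero_comp] at hw
        have h4 := hw =≫ C.iCycles p
        simp only [Category.assoc, HomologicalComplex.liftCycles_i, zero_comp] at h4
        exact (cancel_epi π).1 (h4.trans comp_zero.symm)
      · haveI := hem p hgt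
        exact (cancel_mono (e p)).1 (h2.trans zero_comp.symm)
    exact HomologicalComplex.mono_of_mono_f ε this
  · intro p
    have hp : I.d (p - 1) p ≫ (biprod.fst : I.X p ⟶ J p) = 0 := by
      obtain ⟨a, rfl⟩ : ∃ a, p = a + 1 := ⟨p - 1, by omega⟩
      rw [add_sub_cancel_right, hId]
      simp [d]
    haveI := hjm p (hj p)
    have e0 : HomologicalComplex.homologyMap ε p ≫ I.homologyι p ≫ I.descOpcycles biprod.fst (p - 1) (by simp) hp =
        C.homologyι p ≫ C.descOpcycles (j p) (p - 1) (by simp) (hj p) := by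
      rw [← cancel_epi (C.homologyπ p)]
      simp [ε, ef]
    exact mono_of_mono_fac e0
  · intro p
    haveI := hIX p
    let π : I.X p ⟶ I.X p := biprod.lift biprod.fst (biprod.lift (biprod.snd ≫ biprod.fst) 0)
    have hπ : π ≫ I.d p (p + 1) = 0 := by rw [hId]; simp [π, d]
    refine injective_of_retract (I.iCycles p) (I.liftCycles π (p + 1) (by simp) hπ) ?_
    rw [← cancel_mono (I.iCycles p), Category.assoc, HomologicalComplex.liftCycles_i, Category.id_comp]
    apply biprod.hom_ext
    · simp [π]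
    · apply biprod.hom_ext
      · simp [π]
      · simpa [π] using (hsnd p).symm
  · intro p
    haveI := hJi p
    have hp : I.d (p - 1) p ≫ (biprod.fst : I.X p ⟶ J p) = 0 := by
      obtain ⟨a, rfl⟩ : ∃ a, p = a + 1 := ⟨p - 1, by omega⟩
      rw [add_sub_cancel_right, hId]
      simp [d]
    have hs : (biprod.inl : J p ⟶ I.X p) ≫ I.d p (p + 1) = 0 := by rw [hId]; simp [d]
    refine injective_of_retract (I.homologyι p ≫ I.descOpcycles biprod.fst (p - 1) (by simp) hp)
      (I.liftCycles biprod.inl (p + 1) (by simp) hs ≫ I.homologyπ p) ?_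
    rw [← cancel_epi (I.homologyπ p), Category.comp_id]
    simp only [Category.assoc, HomologicalComplex.homology_π_ι_assoc, HomologicalComplex.p_descOpcycles_assoc]
    obtain ⟨a, rfl⟩ : ∃ a, p = a + 1 := ⟨p - 1, by omega⟩
    let x : I.cycles (a + 1) ⟶ I.X a :=
      I.iCycles (a + 1) ≫ biprod.snd ≫ biprod.fst ≫ biprod.inr ≫ biprod.inr
    have hb : I.iCycles (a + 1) - (I.iCycles (a + 1) ≫ biprod.fst) ≫ biprod.inl = x ≫ I.d a (a + 1) := by
      rw [hId]
      apply biprod.hom_ext
      · simp [x, d]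
      · apply biprod.hom_ext
        · simp [x, d]
        · simpa [x, d] using hsnd (a + 1)
    have key := I.liftCycles_homologyπ_eq_zero_of_boundary _ (a + 1 + 1) (by simp) x hb
    have e1 : I.liftCycles (I.iCycles (a + 1) - (I.iCycles (a + 1) ≫ biprod.fst) ≫ biprod.inl) (a + 1 + 1) (by simp)
        (by rw [hb, Category.assoc, HomologicalComplex.d_comp_d, comp_zero]) =
        𝟙 _ - (I.iCycles (a + 1) ≫ biprod.fst) ≫ I.liftCycles biprod.inl (a + 1 + 1) (by simp) hs := by
      simp [← cancel_mono (I.iCycles (a + 1))]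
    rw [e1, Preadditive.sub_comp, Category.id_comp, sub_eq_zero] at key
    simpa using key.symm

end emb

instance additive_cyclesFunctor (p : ℤ) :
    (HomologicalComplex.cyclesFunctor A (ComplexShape.up ℤ) p).Additive where
  map_add {X Y f g} := by
    show HomologicalComplex.cyclesMap (f + g) p = HomologicalComplex.cyclesMap f p + HomologicalComplex.cyclesMap g p
    rw [← cancel_mono (Y.iCycles p)]
    simp [Preadditive.add_comp]

section assemble

variable [EnoughInjectives A] (n : ℤ)

/-- Bounded below complexes. -/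
abbrev Bdd := {C : CochainComplex A ℤ // C.IsStrictlyGE n}

/-- The chosen embedding. -/
noncomputable def emb (C : Bdd (A := A) n) : Σ' (J : CochainComplex A ℤ) (ε : C.1 ⟶ J), J.IsStrictlyGE n ∧ IsCEEmb ε :=
  haveI := C.2
  ⟨(exists_emb C.1 n).choose, (exists_emb C.1 n).choose_spec.choose, (exists_emb C.1 n).choose_spec.choose_spec⟩

theorem ge_coker (C : Bdd (A := A) n) : (cokernel (emb n C).2.1).IsStrictlyGE n := by
  rw [CochainComplex.isStrictlyGE_iff]
  intro p hp
  haveI := (emb n C).2.2.1
  exact IsZero.of_epi ((cokernel.π (emb n C).2.1).f p) ((emb n C).1.isZero_of_isStrictlyGE n p hp)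

/-- The iterated cokernels. -/
noncomputable def seqC (K : Bdd (A := A) n) : ℕ → Bdd (A := A) n
  | 0 => K
  | k + 1 => ⟨cokernel (emb n (seqC K k)).2.1, ge_coker n (seqC K k)⟩

/-- The terms of the resolution. -/
noncomputable def seqI (K : Bdd (A := A) n) (k : ℕ) : CochainComplex A ℤ := (emb n (seqC n K k)).1

/-- The embedding. -/
noncomputable def seqε (K : Bdd (A := A) n) (k : ℕ) : (seqC n K k).1 ⟶ seqI n K k := (emb n (seqC n K k)).2.1

/-- The projection. -/
noncomputable def seqπ (K : Bdd (A := A) n) (k : ℕ) : seqI n K k ⟶ (seqC n K (k + 1)).1 :=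
  cokernel.π (emb n (seqC n K k)).2.1

theorem seqε_π (K : Bdd (A := A) n) (k : ℕ) : seqε n K k ≫ seqπ n K k = 0 := cokernel.condition _

theorem seq_shortExact (K : Bdd (A := A) n) (k : ℕ) :
    (ShortComplex.mk (seqε n K k) (seqπ n K k) (seqε_π n K k)).ShortExact := by
  refine { exact := ShortComplex.exact_of_g_is_cokernel _ (cokernelIsCokernel _), mono_f := ?_, epi_g := ?_ }
  · exact (emb n (seqC n K k)).2.2.2.mono
  · exact (inferInstance : Epi (cokernel.π (emb n (seqC n K k)).2.1))

/-- The terms indexed by the integers. -/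
noncomputable def XI (K : Bdd (A := A) n) : ℤ → CochainComplex A ℤ
  | .ofNat k => seqI n K k
  | .negSucc _ => 0

/-- The vertical differential. -/
noncomputable def dI (K : Bdd (A := A) n) : ∀ q : ℤ, XI n K q ⟶ XI n K (q + 1)
  | .ofNat k => seqπ n K k ≫ seqε n K (k + 1)
  | .negSucc _ => 0

theorem dI_sq (K : Bdd (A := A) n) : ∀ q : ℤ, dI n K q ≫ dI n K (q + 1) = 0
  | .ofNat k => by
    show (seqπ n K k ≫ seqε n K (k + 1)) ≫ (seqπ n K (k + 1) ≫ seqε n K (k + 1 + 1)) = 0
    rw [Category.assoc, ← Category.assoc (seqε n K (k + 1)), seqε_π, zero_comp, comp_zero]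
  | .negSucc _ => zero_comp

/-- The double complex. -/
noncomputable def res (K : Bdd (A := A) n) : CochainComplex (CochainComplex A ℤ) ℤ :=
  CochainComplex.of (XI n K) (dI n K) (dI_sq n K)

theorem res_d (K : Bdd (A := A) n) (q : ℤ) : (res n K).d q (q + 1) = dI n K q := CochainComplex.of_d ..

theorem aug_d (K : Bdd (A := A) n) : (seqε n K 0 : K.1 ⟶ (res n K).X 0) ≫ (res n K).d 0 1 = 0 := by
  rw [show ((res n K).d 0 1) = dI n K 0 from res_d n K 0]
  show seqε n K 0 ≫ seqπ n K 0 ≫ seqε n K 1 = 0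
  rw [← Category.assoc, seqε_π, zero_comp]

theorem isInjResolutionVia (K : Bdd (A := A) n) (F : CochainComplex A ℤ ⥤ A) [F.Additive]
    (hF : ∀ k, ((ShortComplex.mk (seqε n K k) (seqπ n K k) (seqε_π n K k)).map F).ShortExact)
    (hinj : ∀ k, Injective (F.obj (seqI n K k))) :
    CE.IsInjResolutionVia ((F.mapHomologicalComplex (ComplexShape.up ℤ)).obj (res n K)) (F.obj K.1)
      (F.map (seqε n K 0)) := by
  have hz : ∀ k : ℕ, IsZero (F.obj (XI n K (.negSucc k))) := fun k => F.map_isZero (show IsZero (0 : CochainComplex A ℤ) from isZero_zero _)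
  have key : ∀ k : ℕ, (ShortComplex.mk (F.map (seqε n K k)) (F.map (seqπ n K k ≫ seqε n K (k + 1)))
      (by rw [← F.map_comp, ← Category.assoc, seqε_π, zero_comp, F.map_zero])).Exact := by
    intro k
    let φ : (ShortComplex.mk (seqε n K k) (seqπ n K k) (seqε_π n K k)).map F ⟶
        ShortComplex.mk (F.map (seqε n K k)) (F.map (seqπ n K k ≫ seqε n K (k + 1)))
          (by rw [← F.map_comp, ← Category.assoc, seqε_π, zero_comp, F.map_zero]) :=
      { τ₁ := 𝟙 _, τ₂ := 𝟙 _, τ₃ := F.map (seqε n K (k + 1))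
        comm₁₂ := (Category.id_comp _).trans (Category.comp_id _).symm
        comm₂₃ := (Category.id_comp _).trans (F.map_comp _ _) }
    haveI : Mono φ.τ₃ := (hF (k + 1)).mono_f
    haveI : IsIso φ.τ₂ := (inferInstance : IsIso (𝟙 (F.obj (seqI n K k))))
    haveI : Epi φ.τ₁ := (inferInstance : Epi (𝟙 (F.obj (seqC n K k).1)))
    exact (ShortComplex.exact_iff_of_epi_of_isIso_of_mono φ).1 (hF k).exact
  have h0 : (F.map (seqε n K 0) : F.obj K.1 ⟶ _) ≫
      ((F.mapHomologicalComplex (ComplexShape.up ℤ)).obj (res n K)).d 0 1 = 0 := by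
    exact (F.map_comp _ _).symm.trans ((congrArg F.map (aug_d n K)).trans (F.map_zero _ _))
  refine ⟨h0, ?_, ?_, ?_, ?_, ?_⟩
  · rw [CochainComplex.isStrictlyGE_iff]
    rintro (k | k) hk
    · exact absurd hk (by simp)
    · exact hz k
  · rintro (k | k)
    · exact hinj k
    · exact ⟨fun g f _ => ⟨0, (hz k).eq_of_tgt _ _⟩⟩
  · intro q hq
    rcases q with (_ | k) | k
    · exact absurd rfl hq
    · rw [HomologicalComplex.exactAt_iff' _ (Int.ofNat k) (Int.ofNat (k + 1)) (Int.ofNat (k + 1) + 1)
        (by simp) (by simp)]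
      have e1 : (res n K).d (Int.ofNat k) (Int.ofNat (k + 1)) = seqπ n K k ≫ seqε n K (k + 1) :=
        res_d n K (Int.ofNat k)
      have e2 : (res n K).d (Int.ofNat (k + 1)) (Int.ofNat (k + 1) + 1) = seqπ n K (k + 1) ≫ seqε n K (k + 1 + 1) :=
        res_d n K (Int.ofNat (k + 1))
      let φ : ((F.mapHomologicalComplex (ComplexShape.up ℤ)).obj (res n K)).sc' (Int.ofNat k) (Int.ofNat (k + 1))
          (Int.ofNat (k + 1) + 1) ⟶ ShortComplex.mk (F.map (seqε n K (k + 1)))
            (F.map (seqπ n K (k + 1) ≫ seqε n K (k + 1 + 1)))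
            (by rw [← F.map_comp, ← Category.assoc, seqε_π, zero_comp, F.map_zero]) :=
        { τ₁ := F.map (seqπ n K k)
          τ₂ := 𝟙 _
          τ₃ := 𝟙 _
          comm₁₂ := ((F.map_comp _ _).symm.trans (congrArg F.map e1).symm).trans (Category.comp_id _).symm
          comm₂₃ := (Category.id_comp _).trans ((congrArg F.map e2).symm.trans (Category.comp_id _).symm) }
      haveI : IsIso φ.τ₂ := (inferInstance : IsIso (𝟙 (F.obj (seqI n K (k + 1)))))
      haveI : Mono φ.τ₃ := (inferInstance : Mono (𝟙 (F.obj (seqI n K (k + 1 + 1)))))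
      haveI : Epi φ.τ₁ := (hF k).epi_g
      exact (ShortComplex.exact_iff_of_epi_of_isIso_of_mono φ).2 (key (k + 1))
    · exact HomologicalComplex.ExactAt.of_isZero (hz k)
  · exact (hF 0).mono_f
  · let φ : ShortComplex.mk (F.map (seqε n K 0)) (F.map (seqπ n K 0 ≫ seqε n K 1))
        (by rw [← F.map_comp, ← Category.assoc, seqε_π, zero_comp, F.map_zero]) ≅
        ShortComplex.mk (F.map (seqε n K 0)) (((F.mapHomologicalComplex (ComplexShape.up ℤ)).obj (res n K)).d 0 1) h0 :=
      ShortComplex.isoMk (Iso.refl _) (Iso.refl _) (Iso.refl _)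
        ((Category.id_comp _).trans (Category.comp_id _).symm)
        (by
          show 𝟙 _ ≫ F.map ((res n K).d 0 1) = _ ≫ 𝟙 _
          rw [show ((res n K).d 0 1) = dI n K 0 from res_d n K 0]
          exact (Category.id_comp _).trans (Category.comp_id _).symm)
    exact ShortComplex.exact_of_iso φ (key 0)

theorem exists_CE (K : CochainComplex A ℤ) [hK : K.IsStrictlyGE n] :
    ∃ (I : CochainComplex (CochainComplex A ℤ) ℤ) (ε : K ⟶ I.X 0) (_ : ε ≫ I.d 0 1 = 0),
      (∃ i : ℤ, ∀ p q : ℤ, p < i → IsZero ((I.X q).X p)) ∧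
      (∀ p : ℤ, CE.IsInjResolutionVia (((HomologicalComplex.eval A (ComplexShape.up ℤ) p).mapHomologicalComplex (ComplexShape.up ℤ)).obj I) (K.X p) (ε.f p)) ∧
      (∀ p : ℤ, CE.IsInjResolutionVia (((HomologicalComplex.cyclesFunctor A (ComplexShape.up ℤ) p).mapHomologicalComplex (ComplexShape.up ℤ)).obj I) (K.cycles p) (HomologicalComplex.cyclesMap ε p)) ∧
      (∀ p : ℤ, CE.IsInjResolutionVia (((HomologicalComplex.homologyFunctor A (ComplexShape.up ℤ) p).mapHomologicalComplex (ComplexShape.up ℤ)).obj I) (K.homology p) (HomologicalComplex.homologyMap ε p)) := by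
  let K' : Bdd (A := A) n := ⟨K, hK⟩
  have hH := fun k => (emb n (seqC n K' k)).2.2.2
  refine ⟨res n K', seqε n K' 0, aug_d n K', ⟨n, ?_⟩, fun p => ?_, fun p => ?_, fun p => ?_⟩
  · rintro p (k | k) hp
    · haveI := (emb n (seqC n K' k)).2.2.1
      exact (emb n (seqC n K' k)).1.isZero_of_isStrictlyGE n p hp
    · exact (HomologicalComplex.eval A (ComplexShape.up ℤ) p).map_isZero (show IsZero (0 : CochainComplex A ℤ) from isZero_zero _)
  · exact isInjResolutionVia n K' _ (fun k => (seq_shortExact n K' k).map_of_exact _) (fun k => (hH k).inj_X p)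
  · exact isInjResolutionVia n K' _ (fun k => shortExact_cycles (seq_shortExact n K' k) (hH k).mono_homology p)
      (fun k => (hH k).inj_cycles p)
  · exact isInjResolutionVia n K' _ (fun k => shortExact_homology (seq_shortExact n K' k) (hH k).mono_homology p)
      (fun k => (hH k).inj_homology p)

end assemble

end Groth.Agent.CE6
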